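import Mathlib
import Cfsg.Agent.H523.FpfCyc
import Cfsg.Agent.H69.OutGF
import Cfsg.Agent.H70.OutE
import Cfsg.Agent.LieRecognition.FieldSemilinear
import Cfsg.Agent.FastGrp
import Cfsg.Agent.Prune
set_option linter.all false
prune_inst 0x7f00000000000000000000000000000000000000000000000000000000000000000000000000000000000000000000000000000000000000000000000000000000000000000000000000000000000000003fffffffffffffffffffffffffffbeffbdffffffff
open scoped Cfsg.Agent.FastGrp

/-!
# `CycOut` for the Chevalley groups of types `G₂`, `F₄`, `E₈` (helper523)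

* `Val hD φ c τ` : `φ` is the product of the diagonal automorphism with values `c` and the field automorphism `τ`;
* `inner_of_val` : the diagonal automorphisms are inner if `|H| = (q - 1) ^ l`;
* `cycOut_of_bot`, `cycOut_of_flip`; `cycOut_G2`, `cycOut_F4`, `cycOut_E8`.
-/

set_option autoImplicit false
set_option linter.unusedSectionVars false

namespace Cfsg.Agent.H523.Chev

open scoped Pointwise
open Cfsg Cfsg.Lie Cfsg.Agent.ChevalleyStructure Cfsg.Agent.ChevalleyStructure.Elts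
  Cfsg.Agent.ChevalleyStructure.NConj Cfsg.Agent.ChevalleyStructure.BNChev Cfsg.Agent.S1042
  Cfsg.Agent.Schreier.ChevLocal
  Cfsg.Agent.H70.AutFix Cfsg.Agent.H70.ChevTab Cfsg.Agent.H70.ChevFix
  Cfsg.Agent.H70.ChevField Cfsg.Agent.H70.OutCount Cfsg.Agent.H69.OutGF

universe u

variable {D : ChevalleyDatum} (hD : InList D) {F : Type u} [Field F]

/-- the automorphism with diagonal part `c` and field part `τ` -/
def Val (φ : MulAut ↥(D.group F)) (c : Fin D.rank → Fˣ) (τ : F ≃+* F) : Prop :=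
  (∀ (i : Fin D.rank) (t : F), φ (xe hD (D.simple i) t) = xe hD (D.simple i) ((c i : F) * τ t)) ∧
  ∀ (i : Fin D.rank) (t : F), φ (xe hD (D.neg (D.simple i)) t) = xe hD (D.neg (D.simple i)) ((c i : F)⁻¹ * τ t)

variable {hD}

theorem Val.mul {φ φ' : MulAut ↥(D.group F)} {c c' : Fin D.rank → Fˣ} {τ τ' : F ≃+* F} (h : Val hD φ c τ)
    (h' : Val hD φ' c' τ') : Val hD (φ * φ') (fun i => c i * Units.mapEquiv τ.toMulEquiv (c' i)) (τ * τ') := by
  have e : ∀ i, ((Units.mapEquiv τ.toMulEquiv (c' i) : Fˣ) : F) = τ (c' i) := fun i => rfl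
  constructor
  · intro i t
    rw [MulAut.mul_apply, h'.1, h.1, map_mul, Units.val_mul, e, mul_assoc]
    rfl
  · intro i t
    rw [MulAut.mul_apply, h'.2, h.2, map_mul, map_inv₀, Units.val_mul, e, mul_inv, mul_assoc]
    rfl

theorem Val.ext {φ φ' : MulAut ↥(D.group F)} {c : Fin D.rank → Fˣ} {τ : F ≃+* F} (h : Val hD φ c τ)
    (h' : Val hD φ' c τ) : φ = φ' :=
  ext_values hD (fun i t => by rw [h.1, h'.1]) (fun i t => by rw [h.2, h'.2])

variable (hD) in
theorem exists_val (c : Fin D.rank → Fˣ) (τ : F ≃+* F) : ∃ φ : MulAut ↥(D.group F), Val hD φ c τ := by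
  obtain ⟨φ, h1, h2⟩ := exists_values hD c τ
  exact ⟨φ, h1, h2⟩

theorem exists_val_of_perm {φ : MulAut ↥(D.group F)} (h : Perm D F φ 1) :
    ∃ (c : Fin D.rank → Fˣ) (τ : F ≃+* F), Val hD φ c τ := by
  obtain ⟨c, σ, hc, h1, h2, h3⟩ := exists_field hD h
  obtain ⟨τ, hτ⟩ := sigma_eq hD (σ := σ) h3
  refine ⟨fun i => Units.mk0 (c i) (hc i), τ, fun i t => ?_, fun i t => ?_⟩
  · rw [h1, hτ]
    rfl
  · rw [h2, hτ]
    rfl

theorem exists_val_conj {h : ↥(D.group F)} (hh : h ∈ HH D F) : ∃ c : Fin D.rank → Fˣ, Val hD (MulAut.conj h) c 1 := by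
  have hrank : 0 < D.rank := (RootComb.good_of_mem hD).rank_pos
  obtain ⟨c, τ, hv⟩ := exists_val_of_perm (hD := hD) (φ := MulAut.conj h)
    ⟨fun i => conj_XX hD hh (simple_lt hD i.2), fun i => conj_XX hD hh (neg_simple_lt hD i.2)⟩
  have hτ : τ = 1 := by
    obtain ⟨a, ha, h1⟩ := diagonal_conj hD hh (simple_lt hD hrank)
    have h2 : ∀ t : F, (c ⟨0, hrank⟩ : F) * τ t = a * t := by
      intro t
      apply xe_inj hD (simple_lt hD hrank)
      have h3 := hv.1 ⟨0, hrank⟩ t
      rw [← h3]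
      exact Subtype.ext (h1 t)
    have h3 : (c ⟨0, hrank⟩ : F) = a := by
      have := h2 1
      rwa [map_one, mul_one, mul_one] at this
    ext t
    have h4 := h2 t
    rw [h3] at h4
    exact mul_left_cancel₀ ha h4
  rw [hτ] at hv
  exact ⟨c, hv⟩

/-- **The diagonal automorphisms are inner.** -/
theorem inner_of_val [Finite F] (hd : Nat.card (D.diagonalSubgroup F) = (Nat.card F - 1) ^ D.rank)
    {φ : MulAut ↥(D.group F)} {c : Fin D.rank → Fˣ} (h : Val hD φ c 1) : ∃ g : ↥(D.group F), φ = MulAut.conj g := by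
  have h0 : Nat.card (HH D F) = (Nat.card F - 1) ^ D.rank := by
    rw [← hd]
    exact Nat.card_congr (Subgroup.subgroupOfEquivOfLe (diagonal_le_group hD F)).toEquiv
  choose f hf using fun g : HH D F => exists_val_conj (hD := hD) g.2
  have hinj : Function.Injective f := by
    intro a b hab
    have h1 := hf a
    rw [hab] at h1
    exact Subtype.ext (conj_injective hD (h1.ext (hf b)))
  have hbij := hinj.bijective_of_nat_card_le (by
    rw [h0, Nat.card_fun, Nat.card_units, Nat.card_fin])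
  obtain ⟨g, hg⟩ := hbij.2 c
  refine ⟨g, h.ext ?_⟩
  rw [← hg]
  exact hf g

/-- the Frobenius automorphism generates -/
theorem exists_frob_pow [Finite F] (p : ℕ) [hp : Fact p.Prime] [CharP F p] (ρ : F ≃+* F) :
    ∃ n : ℕ, ρ = (frobeniusEquiv F p) ^ n := by
  let _ : Algebra (ZMod p) F := ZMod.algebra F p
  let toGal : (F ≃+* F) →* (F ≃ₐ[ZMod p] F) :=
    { toFun := fun φ => AlgEquiv.ofRingEquiv (f := φ) (fun a => by
        have : (φ : F →+* F).comp (algebraMap (ZMod p) F) = algebraMap (ZMod p) F := Subsingleton.elim _ _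
        exact RingHom.congr_fun this a)
      map_one' := rfl
      map_mul' := fun _ _ => rfl }
  obtain ⟨n, hn⟩ := (FiniteField.bijective_frobeniusAlgEquivOfAlgebraic_pow (ZMod p) F).2 (toGal ρ)
  refine ⟨n.1, ?_⟩
  have h1 : toGal (frobeniusEquiv F p) = FiniteField.frobeniusAlgEquivOfAlgebraic (ZMod p) F := by
    ext x
    show frobeniusEquiv F p x = x ^ (Fintype.card (ZMod p))
    rw [frobeniusEquiv_apply, frobenius_def, ZMod.card]
  have hinj : Function.Injective toGal := by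
    intro a b h
    ext x
    exact congrArg (fun f : F ≃ₐ[ZMod p] F => f x) h
  apply hinj
  rw [map_pow, h1]
  exact hn.symm

/-- Without graph automorphisms. -/
theorem cycOut_of_bot [Finite F] (hd : Nat.card (D.diagonalSubgroup F) = (Nat.card F - 1) ^ D.rank)
    (hr : ∀ π ∈ realised hD F, π = 1) : CycOut ↥(D.group F) := by
  have hC : IsCyclic (F ≃+* F) := LieRecognition.FieldSemilinear.isCyclic_ringAut F
  have hCf : Finite (F ≃+* F) := Finite.of_injective (fun f : F ≃+* F => (f : F → F)) DFunLike.coe_injective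
  refine cycOut_of_rel (C := F ≃+* F) (fun φ τ => ∃ c, Val hD φ c τ) (fun α => ?_) ?_ (fun τ => ?_) ?_
  · obtain ⟨x, π, -, -, h1, h2⟩ := exists_conj_perm (F := F) hD α
    have hπ : π = 1 := hr π ⟨_, h1, h2⟩
    subst hπ
    obtain ⟨c, τ, h⟩ := exists_val_of_perm (hD := hD) (φ := MulAut.conj x * α) ⟨h1, h2⟩
    exact ⟨x, τ, c, h⟩
  · rintro β τ β' τ' ⟨c, h⟩ ⟨c', h'⟩
    exact ⟨_, h.mul h'⟩
  · obtain ⟨φ, h⟩ := exists_val hD 1 τ
    exact ⟨φ, 1, h⟩
  · rintro β ⟨c, h⟩
    exact inner_of_val hd h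

/-- With a graph automorphism whose square is the Frobenius. -/
theorem cycOut_of_flip [Finite F] (p : ℕ) [hp : Fact p.Prime] [CharP F p]
    (hd : Nat.card (D.diagonalSubgroup F) = (Nat.card F - 1) ^ D.rank)
    {γ : MulAut ↥(D.group F)} {s : Equiv.Perm (Fin D.rank)} (hs : s * s = 1) (hγ : Perm D F γ s)
    (hr : ∀ π ∈ realised hD F, π = 1 ∨ π = s) {c : Fin D.rank → Fˣ} (hc : Val hD (γ * γ) c (frobeniusEquiv F p)) :
    CycOut ↥(D.group F) := by
  have hpow : ∀ n : ℕ, ∃ c, Val hD ((γ * γ) ^ (n + 1)) c (frobeniusEquiv F p ^ (n + 1)) := by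
    intro n
    induction n with
    | zero => exact ⟨c, by simpa using hc⟩
    | succ n ih =>
      obtain ⟨c', h'⟩ := ih
      refine ⟨fun i => c' i * Units.mapEquiv (frobeniusEquiv F p ^ (n + 1) : F ≃+* F).toMulEquiv (c i), ?_⟩
      rw [pow_succ (γ * γ), pow_succ (frobeniusEquiv F p)]
      exact h'.mul hc
  have key : ∀ φ : MulAut ↥(D.group F), Perm D F φ 1 → ∃ (g : ↥(D.group F)) (k : ℤ), φ = MulAut.conj g * γ ^ k := by
    intro φ hφ
    obtain ⟨c1, τ, h⟩ := exists_val_of_perm (hD := hD) hφ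
    have hCf : Finite (F ≃+* F) := Finite.of_injective (fun f : F ≃+* F => (f : F → F)) DFunLike.coe_injective
    obtain ⟨n, hn⟩ := exists_frob_pow p τ⁻¹
    have ho : 0 < orderOf (frobeniusEquiv F p : F ≃+* F) := orderOf_pos _
    have hn' : (frobeniusEquiv F p : F ≃+* F) ^ (n + orderOf (frobeniusEquiv F p : F ≃+* F) - 1 + 1) = τ⁻¹ := by
      have e : n + orderOf (frobeniusEquiv F p : F ≃+* F) - 1 + 1 = n + orderOf (frobeniusEquiv F p : F ≃+* F) := by
        omega
      rw [e, pow_add, pow_orderOf_eq_one, mul_one, hn]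
    obtain ⟨c2, h2⟩ := hpow (n + orderOf (frobeniusEquiv F p : F ≃+* F) - 1)
    rw [hn'] at h2
    have h3 := h.mul h2
    rw [mul_inv_cancel] at h3
    obtain ⟨g, hg⟩ := inner_of_val hd h3
    refine ⟨g, -(2 * ((n + orderOf (frobeniusEquiv F p : F ≃+* F) - 1 + 1 : ℕ) : ℤ)), ?_⟩
    rw [← hg, zpow_neg, zpow_mul, zpow_natCast]
    have e : γ ^ (2 : ℤ) = γ * γ := by
      rw [show (2 : ℤ) = ((2 : ℕ) : ℤ) from rfl, zpow_natCast, pow_two]
    rw [e]
    group
  refine ⟨γ, fun α => ?_⟩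
  obtain ⟨x, π, -, -, h1, h2⟩ := exists_conj_perm (F := F) hD α
  have hP : Perm D F (MulAut.conj x * α) π := ⟨h1, h2⟩
  rcases hr π ⟨_, hP⟩ with rfl | rfl
  · obtain ⟨g, k, hg⟩ := key _ hP
    refine ⟨x⁻¹ * g, k, ?_⟩
    rw [map_mul, mul_assoc, ← hg, map_inv]
    group
  · have h3 := hP.mul hγ.inv
    rw [mul_inv_cancel] at h3
    obtain ⟨g, k, hg⟩ := key _ h3
    refine ⟨x⁻¹ * g, k + 1, ?_⟩
    rw [zpow_add, zpow_one, map_mul, mul_assoc, ← mul_assoc (MulAut.conj g), ← hg, map_inv]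
    group

/-! ### `E₈` -/

theorem cycOut_E8 [Fintype F] : CycOut ↥(chevE8.group F) := by
  refine cycOut_of_bot (hD := H70.OutE.inList_E8) ?_ ?_
  · have h1 := S1035.result (F := F) (q := Fintype.card F) rfl (chevE8, 1) (by simp)
    have h2 : 1 * Nat.card (chevE8.diagonalSubgroup F) = (Fintype.card F - 1) ^ chevE8.rank := h1
    rw [one_mul] at h2
    rw [h2, Nat.card_eq_fintype_card]
  · rintro π ⟨φ, hφ⟩
    exact Cfsg.Agent.H79.DiagSymm.eq_one_E8 (H70.DiagSym.isDiagramSymmetry H70.OutE.inList_E8 hφ)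

/-! ### `G₂` -/

theorem cycOut_G2 [Fintype F] (hq : 3 ≤ Fintype.card F) : CycOut ↥(chevG2.group F) := by
  have hq' : 3 ≤ Nat.card F := by rwa [Nat.card_eq_fintype_card]
  have hd : Nat.card (chevG2.diagonalSubgroup F) = (Nat.card F - 1) ^ chevG2.rank := card_diag_G2
  have hr : ∀ π : Equiv.Perm (Fin chevG2.rank), π = 1 ∨ π = flip2 := fun π => perm2 π
  by_cases h3 : (3 : F) = 0
  · have hp : Fact (Nat.Prime 3) := ⟨Nat.prime_three⟩
    have hc : CharP F 3 := by
      obtain ⟨p, hc⟩ := CharP.exists F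
      have hp : p.Prime := (CharP.char_is_prime_or_zero F p).resolve_right (CharP.char_ne_zero_of_finite F p)
      have h1 : p ∣ 3 := (CharP.cast_eq_zero_iff F p 3).1 (by exact_mod_cast h3)
      rwa [(Nat.prime_dvd_prime_iff_eq hp Nat.prime_three).1 h1] at hc
    obtain ⟨α, hα⟩ := Cfsg.Agent.S1099.result (K := F) (hperf 3)
    have h0 : (flip2 (0 : Fin 2) : ℕ) = 1 := rfl
    have h1 : (flip2 (1 : Fin 2) : ℕ) = 0 := rfl
    obtain ⟨t0, t1, t2, t3⟩ := tab_G2
    have ha : ∀ t, α (xe hG2 7 t) = xe hG2 6 (t ^ 3) := fun t =>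
      eq_xe hG2 ((hα (xe hG2 7 t) t).1 (coe_coe_xe hG2 7 t))
    have hb : ∀ t, α (xe hG2 6 t) = xe hG2 7 t := fun t =>
      eq_xe hG2 ((hα (xe hG2 6 t) t).2.1 (coe_coe_xe hG2 6 t))
    have hma : ∀ t, α (xe hG2 4 t) = xe hG2 5 (t ^ 3) := fun t =>
      eq_xe hG2 ((hα (xe hG2 4 t) t).2.2.1 (coe_coe_xe hG2 4 t))
    have hmb : ∀ t, α (xe hG2 5 t) = xe hG2 4 t := fun t =>
      eq_xe hG2 ((hα (xe hG2 5 t) t).2.2.2 (coe_coe_xe hG2 5 t))
    have hcube : Function.Surjective (fun t : F => t ^ 3) := hperf 3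
    have hfin2 : ∀ i : Fin chevG2.rank, i = (0 : Fin 2) ∨ i = (1 : Fin 2) := by
      intro i
      have : ∀ j : Fin 2, j = 0 ∨ j = 1 := by decide
      exact this i
    have hP : Perm chevG2 F α flip2 := by
      refine ⟨fun i => ?_, fun i => ?_⟩
      · rcases hfin2 i with rfl | rfl
        · rw [h0]
          show α • XX chevG2 F (chevG2.simple 0) = _
          rw [t0, t1]
          exact smul_XX hG2 (φ := α) hcube ha
        · rw [h1]
          show α • XX chevG2 F (chevG2.simple 1) = _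
          rw [t0, t1]
          exact smul_XX hG2 (φ := α) (f := id) Function.surjective_id hb
      · rcases hfin2 i with rfl | rfl
        · rw [h0]
          show α • XX chevG2 F (chevG2.neg (chevG2.simple 0)) = _
          rw [t0, t1, t2, t3]
          exact smul_XX hG2 (φ := α) hcube hma
        · rw [h1]
          show α • XX chevG2 F (chevG2.neg (chevG2.simple 1)) = _
          rw [t0, t1, t2, t3]
          exact smul_XX hG2 (φ := α) (f := id) Function.surjective_id hmb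
    have hfr : ∀ t : F, frobeniusEquiv F 3 t = t ^ 3 := fun t => by rw [frobeniusEquiv_apply, frobenius_def]
    refine cycOut_of_flip (hD := hG2) 3 hd (γ := α) (s := flip2) ?_ hP (fun π _ => hr π) (c := 1) ⟨fun i t => ?_, fun i t => ?_⟩
    · have : (Equiv.swap (0 : Fin 2) 1) * Equiv.swap 0 1 = 1 := by decide
      exact this
    · rw [MulAut.mul_apply, Pi.one_apply, Units.val_one, one_mul, hfr]
      rcases hfin2 i with rfl | rfl
      · show α (α (xe hG2 (chevG2.simple 0) t)) = xe hG2 (chevG2.simple 0) (t ^ 3)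
        rw [t0]
        exact (congrArg α (ha t)).trans (hb _)
      · show α (α (xe hG2 (chevG2.simple 1) t)) = xe hG2 (chevG2.simple 1) (t ^ 3)
        rw [t1]
        exact (congrArg α (hb t)).trans (ha _)
    · rw [MulAut.mul_apply, Pi.one_apply, Units.val_one, inv_one, one_mul, hfr]
      rcases hfin2 i with rfl | rfl
      · show α (α (xe hG2 (chevG2.neg (chevG2.simple 0)) t)) = xe hG2 (chevG2.neg (chevG2.simple 0)) (t ^ 3)
        rw [t0, t2]
        exact (congrArg α (hma t)).trans (hmb _)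
      · show α (α (xe hG2 (chevG2.neg (chevG2.simple 1)) t)) = xe hG2 (chevG2.neg (chevG2.simple 1)) (t ^ 3)
        rw [t1, t3]
        exact (congrArg α (hmb t)).trans (hma _)
  · refine cycOut_of_bot (hD := hG2) hd fun π hπ => ?_
    rcases hr π with h | h
    · exact h
    · rw [h] at hπ
      exact absurd hπ (flip2_not_mem h3 hq')

/-! ### `F₄` -/

theorem cycOut_F4 [Fintype F] : CycOut ↥(chevF4.group F) := by
  have hd : Nat.card (chevF4.diagonalSubgroup F) = (Nat.card F - 1) ^ chevF4.rank := card_diag_F4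
  have hr : ∀ π ∈ realised hF4 F, π = 1 ∨ π = flip4 := fun π hπ => realised_F4 hπ
  by_cases h2 : (2 : F) = 0
  · have hp : Fact (Nat.Prime 2) := ⟨Nat.prime_two⟩
    have hc : CharP F 2 := by
      obtain ⟨p, hc⟩ := CharP.exists F
      have hp : p.Prime := (CharP.char_is_prime_or_zero F p).resolve_right (CharP.char_ne_zero_of_finite F p)
      have h1 : p ∣ 2 := (CharP.cast_eq_zero_iff F p 2).1 (by exact_mod_cast h2)
      rwa [(Nat.prime_dvd_prime_iff_eq hp Nat.prime_two).1 h1] at hc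
    obtain ⟨α, hα⟩ := Cfsg.Agent.S1098.result (K := F) (hperf 2) (chevF4, [(3, 2), (2, 2), (1, 1), (0, 1)]) (by simp)
    have hs : ∀ i : Fin 4, Function.Surjective
        (fun t : F => t ^ ([(3, 2), (2, 2), (1, 1), (0, 1)].getD (i : ℕ) (0, 1)).2) := by
      intro i
      have h1 : ([(3, 2), (2, 2), (1, 1), (0, 1)].getD (i : ℕ) (0, 1)).2 = 1 ∨
          ([(3, 2), (2, 2), (1, 1), (0, 1)].getD (i : ℕ) (0, 1)).2 = 2 := by
        revert i; decide
      rcases h1 with h1 | h1
      · rw [h1]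
        intro x
        exact ⟨x, pow_one x⟩
      · rw [h1]
        exact hperf 2
    have hv : ∀ (i : Fin 4) (t : F), α (xe hF4 (chevF4.simple i) t) = xe hF4 (chevF4.simple
        ([(3, 2), (2, 2), (1, 1), (0, 1)].getD (i : ℕ) (0, 1)).1)
          (t ^ ([(3, 2), (2, 2), (1, 1), (0, 1)].getD (i : ℕ) (0, 1)).2) := fun i t =>
      eq_xe hF4 ((hα (xe hF4 (chevF4.simple i) t) i t i.2).1 (coe_coe_xe hF4 _ t))
    have hv' : ∀ (i : Fin 4) (t : F), α (xe hF4 (chevF4.neg (chevF4.simple i)) t) = xe hF4 (chevF4.neg (chevF4.simple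
        ([(3, 2), (2, 2), (1, 1), (0, 1)].getD (i : ℕ) (0, 1)).1))
          (t ^ ([(3, 2), (2, 2), (1, 1), (0, 1)].getD (i : ℕ) (0, 1)).2) := fun i t =>
      eq_xe hF4 ((hα (xe hF4 (chevF4.neg (chevF4.simple i)) t) i t i.2).2 (coe_coe_xe hF4 _ t))
    have hP : Perm chevF4 F α flip4 := by
      refine ⟨fun i => ?_, fun i => ?_⟩
      · have e : ((flip4 i : Fin chevF4.rank) : ℕ) = ([(3, 2), (2, 2), (1, 1), (0, 1)].getD (i : ℕ) (0, 1)).1 :=
          flip_vals i
        rw [e]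
        exact smul_XX hF4 (φ := α) (hs i) (hv i)
      · have e : ((flip4 i : Fin chevF4.rank) : ℕ) = ([(3, 2), (2, 2), (1, 1), (0, 1)].getD (i : ℕ) (0, 1)).1 :=
          flip_vals i
        rw [e]
        exact smul_XX hF4 (φ := α) (hs i) (hv' i)
    have hfr : ∀ t : F, frobeniusEquiv F 2 t = t ^ 2 := fun t => by rw [frobeniusEquiv_apply, frobenius_def]
    have hflip : flip4' * flip4' = 1 := by decide
    -- the composite
    have hcomp : ∀ i : Fin 4, ∃ j : Fin 4, ([(3, 2), (2, 2), (1, 1), (0, 1)].getD (i : ℕ) (0, 1)).1 = (j : ℕ) ∧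
        ([(3, 2), (2, 2), (1, 1), (0, 1)].getD (j : ℕ) (0, 1)).1 = (i : ℕ) ∧
        ([(3, 2), (2, 2), (1, 1), (0, 1)].getD (i : ℕ) (0, 1)).2 *
          ([(3, 2), (2, 2), (1, 1), (0, 1)].getD (j : ℕ) (0, 1)).2 = 2 := by decide
    refine cycOut_of_flip (hD := hF4) 2 hd (γ := α) (s := flip4) hflip hP hr (c := 1) ⟨fun i t => ?_, fun i t => ?_⟩
    · rw [MulAut.mul_apply, Pi.one_apply, Units.val_one, one_mul, hfr]
      obtain ⟨j, e1, e2, e3⟩ := hcomp i
      have h5 := hv i t
      rw [e1] at h5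
      have h6 := hv j (t ^ ([(3, 2), (2, 2), (1, 1), (0, 1)].getD (i : ℕ) (0, 1)).2)
      rw [e2, ← pow_mul, e3] at h6
      exact (congrArg α h5).trans h6
    · rw [MulAut.mul_apply, Pi.one_apply, Units.val_one, inv_one, one_mul, hfr]
      obtain ⟨j, e1, e2, e3⟩ := hcomp i
      have h5 := hv' i t
      rw [e1] at h5
      have h6 := hv' j (t ^ ([(3, 2), (2, 2), (1, 1), (0, 1)].getD (i : ℕ) (0, 1)).2)
      rw [e2, ← pow_mul, e3] at h6
      exact (congrArg α h5).trans h6
  · refine cycOut_of_bot (hD := hF4) hd fun π hπ => ?_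
    rcases hr π hπ with h | h
    · exact h
    · rw [h] at hπ
      exact absurd hπ (flip4_not_mem h2)

end Cfsg.Agent.H523.Chev

private theorem dce_e0a211c46d61 : _root_.True := by
  try have : _root_.True := by simp only [_root_.Cfsg.Agent.H523.Chev.Val.congr_simp]
  exact _root_.True.intro
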